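import Cfsg.Agent.H906.Cov.EKill
import Cfsg.Agent.H879.ExtTwo
import Cfsg.Agent.H953.Sympl
import Cfsg.Agent.ClassicalGeometry.SympBasic

/-!
# S3691, SP68-4: the normaliser of a self-adjoint field in `Sp_2m(q)` (helper60)

* `card_dvd_mul` : the centraliser of a field of matrices has index dividing the degree (any index type; after helper655)
* `exists_frame` : coordinates over a self-adjoint field of matrices, the form becomes the standard symplectic form
* `ext` : the statement
-/

set_option autoImplicit false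
set_option linter.unusedSectionVars false

namespace Cfsg.Agent.H60.RS

open Module Cfsg Cfsg.Geo
open Cfsg.Agent.ClassicalGeometry.SympBasic
open scoped MatrixGroups Matrix

universe u

section Mat

variable {ι : Type} [Fintype ι] [DecidableEq ι] {F : Type u} [Field F] {K : Subalgebra F (Matrix ι ι F)}

/-- the centraliser of `K` -/
def cz (K : Subalgebra F (Matrix ι ι F)) : Subgroup (GL ι F) where
  carrier := {x | ∀ k ∈ K, (x : Matrix ι ι F) * k = k * x}
  mul_mem' {a b} ha hb := by
    intro k hk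
    rw [Units.val_mul, mul_assoc, hb k hk, ← mul_assoc, ha k hk, mul_assoc]
  one_mem' := by intro k _; simp
  inv_mem' {a} ha := by
    intro k hk
    have h1 := ha k hk
    calc ((a⁻¹ : GL ι F) : Matrix ι ι F) * k =
        ((a⁻¹ : GL ι F) : Matrix ι ι F) * (k * a) * ((a⁻¹ : GL ι F) : Matrix ι ι F) := by
          rw [mul_assoc, mul_assoc, ← Units.val_mul, mul_inv_cancel, Units.val_one, mul_one]
      _ = k * ((a⁻¹ : GL ι F) : Matrix ι ι F) := by
          rw [← h1, ← mul_assoc, ← Units.val_mul, inv_mul_cancel, Units.val_one, one_mul]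

/-- the centraliser of a field has index dividing the degree -/
theorem card_dvd_mul [Fintype F] {B : Subgroup (GL ι F)} {s : ℕ} (hK : IsFieldSubalgebra s K) [Nonempty ι]
    (hB : B ≤ subalgebraNormalizer K) :
    Nat.card B ∣ Nat.card ↥(B ⊓ cz K) * s := by
  let _ : Field K := (H906.Cov.isField_of hK).toField
  have hfin : Finite K := Module.finite_of_finite F
  have hbij : ∀ b : B, Function.Bijective (H906.Cov.conjE (hB b.2)) := fun b =>
    Finite.injective_iff_bijective.1 (H906.Cov.conjE (hB b.2)).toRingHom.injective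
  let ρ : B →* (K ≃ₐ[F] K) :=
    { toFun := fun b => AlgEquiv.ofBijective (H906.Cov.conjE (hB b.2)) (hbij b)
      map_one' := by
        ext y : 2
        change ((1 : GL ι F) : Matrix ι ι F) * y * (((1 : GL ι F)⁻¹ : GL ι F) : Matrix ι ι F) = y
        simp
      map_mul' := fun a b => by
        ext y : 2
        change (((a : GL ι F) * b : GL ι F) : Matrix ι ι F) * y *
          ((((a : GL ι F) * b)⁻¹ : GL ι F) : Matrix ι ι F) =
          ((a : GL ι F) : Matrix ι ι F) * (((b : GL ι F) : Matrix ι ι F) * y *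
            (((b : GL ι F)⁻¹ : GL ι F) : Matrix ι ι F)) *
            (((a : GL ι F)⁻¹ : GL ι F) : Matrix ι ι F)
        rw [mul_inv_rev, Units.val_mul, Units.val_mul]
        simp only [mul_assoc] }
  have hcard : Nat.card (K ≃ₐ[F] K) = s := by
    rw [IsGalois.card_aut_eq_finrank F K, hK.finrank_eq]
  have h1 := Subgroup.card_mul_index ρ.ker
  have h2 : ρ.ker.index ∣ s := by
    rw [Subgroup.index_ker, ← hcard]
    exact Subgroup.card_subgroup_dvd_card ρ.range
  have h3 : Nat.card ρ.ker ∣ Nat.card ↥(B ⊓ cz K) := by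
    have hle : ρ.ker.map B.subtype ≤ B ⊓ cz K := by
      rintro _ ⟨b, hb, rfl⟩
      refine ⟨b.2, fun k hk => ?_⟩
      have h4 : ρ b = 1 := hb
      have h5 := congrArg (fun z : K ≃ₐ[F] K => ((z ⟨k, hk⟩ : K) : Matrix ι ι F)) h4
      have h6 : ((b : GL ι F) : Matrix ι ι F) * k *
        (((b : GL ι F)⁻¹ : GL ι F) : Matrix ι ι F) = k := h5
      calc ((b : GL ι F) : Matrix ι ι F) * k =
          ((b : GL ι F) : Matrix ι ι F) * k *
            ((((b : GL ι F)⁻¹ : GL ι F) : Matrix ι ι F) * ((b : GL ι F) : Matrix ι ι F)) := by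
            rw [← Units.val_mul, inv_mul_cancel, Units.val_one, mul_one]
        _ = k * ((b : GL ι F) : Matrix ι ι F) := by rw [← mul_assoc, h6]
    rw [← Subgroup.card_map_of_injective (Subgroup.subtype_injective B)]
    exact Subgroup.card_dvd_of_le hle
  rw [← h1]
  exact mul_dvd_mul h3 h2

end Mat

section Basis

variable {K V : Type*} [Field K] [AddCommGroup V] [Module K V] {k : ℕ}

/-- a symplectic basis gives the standard form -/
theorem basis_form (B : LinearMap.BilinForm K V) (hA : B.IsAlt) (b : Basis (Fin k ⊕ Fin k) K V)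
    (h1 : ∀ i j, B (b (Sum.inl i)) (b (Sum.inr j)) = if i = j then 1 else 0)
    (h2 : ∀ i j, B (b (Sum.inl i)) (b (Sum.inl j)) = 0) (h3 : ∀ i j, B (b (Sum.inr i)) (b (Sum.inr j)) = 0) (x y : V) :
    sympForm k K (b.equivFun x) (b.equivFun y) = - B x y := by
  let B' : LinearMap.BilinForm K V := LinearMap.mk₂ K (fun x y => sympForm k K (b.equivFun x) (b.equivFun y))
    (fun x x' y => by rw [map_add, sympForm_add_left]) (fun c x y => by rw [map_smul, sympForm_smul_left, smul_eq_mul])
    (fun x y y' => by rw [map_add, sympForm_add_right]) (fun c x y => by rw [map_smul, sympForm_smul_right, smul_eq_mul])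
  have hB : B' = -B := by
    apply LinearMap.ext_basis b b
    intro i j
    have hs : ∀ i, b.equivFun (b i) = Pi.single i 1 := by
      intro i
      funext j
      rw [Basis.equivFun_self, Pi.single_apply]
      simp [eq_comm]
    change sympForm k K (b.equivFun (b i)) (b.equivFun (b j)) = - B (b i) (b j)
    rw [hs, hs]
    have h4 : ∀ i j, B (b (Sum.inr i)) (b (Sum.inl j)) = if i = j then -1 else 0 := by
      intro i j
      have h5 : B (b (Sum.inr i)) (b (Sum.inl j)) = - B (b (Sum.inl j)) (b (Sum.inr i)) := (hA.neg_eq _ _).symm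
      rw [h5, h1]
      by_cases h : j = i
      · rw [if_pos h, if_pos h.symm]
      · rw [if_neg h, if_neg (Ne.symm h), neg_zero]
    rcases i with i | i <;> rcases j with j | j
    · rw [sympForm_single_inl_left, h2]
      simp
    · rw [sympForm_single_inl_left, h1, Pi.single_apply]
      simp
    · rw [sympForm_single_inr_left, h4, Pi.single_apply]
      by_cases h : i = j
      · simp [h]
      · simp [h]
    · rw [sympForm_single_inr_left, h3]
      simp
  exact congrArg (fun C : LinearMap.BilinForm K V => C x y) hB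

end Basis

section Frame

variable {ι κ : Type} [Fintype ι] [DecidableEq ι] [Fintype κ] [DecidableEq κ] {F : Type u} [Field F]

/-- coordinates over a field of matrices -/
structure Fr (K : Subalgebra F (Matrix ι ι F)) (E : Type u) [Field E] (κ : Type) where
  /-- the coordinates -/
  ψ : (ι → F) ≃+ (κ → E)
  /-- the scalars -/
  toE : Matrix ι ι F → E
  act : ∀ k ∈ K, ∀ v, ψ (k *ᵥ v) = toE k • ψ v
  surj : ∀ e : E, ∃ k ∈ K, toE k = e

variable {K : Subalgebra F (Matrix ι ι F)} {E : Type u} [Field E] (φ : Fr K E κ)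

theorem Fr.symm_smul (e : E) {k : Matrix ι ι F} (hk : k ∈ K) (he : φ.toE k = e) (w : κ → E) :
    φ.ψ.symm (e • w) = k *ᵥ φ.ψ.symm w := by
  apply φ.ψ.injective
  rw [φ.act k hk, φ.ψ.apply_symm_apply, φ.ψ.apply_symm_apply, he]

/-- elements of the centraliser over `E` -/
def up (x : cz K) : (κ → E) ≃ₗ[E] (κ → E) where
  toFun w := φ.ψ (((x : GL ι F) : Matrix ι ι F) *ᵥ φ.ψ.symm w)
  map_add' a b := by rw [map_add, Matrix.mulVec_add, map_add]
  map_smul' e w := by
    obtain ⟨k, hk, he⟩ := φ.surj e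
    rw [φ.symm_smul e hk he, Matrix.mulVec_mulVec, x.2 k hk, ← Matrix.mulVec_mulVec, φ.act k hk, he, RingHom.id_apply]
  invFun w := φ.ψ ((((x : GL ι F)⁻¹ : GL ι F) : Matrix ι ι F) *ᵥ φ.ψ.symm w)
  left_inv w := by
    change φ.ψ ((((x : GL ι F)⁻¹ : GL ι F) : Matrix ι ι F) *ᵥ
      φ.ψ.symm (φ.ψ (((x : GL ι F) : Matrix ι ι F) *ᵥ φ.ψ.symm w))) = w
    rw [φ.ψ.symm_apply_apply, Matrix.mulVec_mulVec, ← Units.val_mul, inv_mul_cancel, Units.val_one, Matrix.one_mulVec,
      φ.ψ.apply_symm_apply]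
  right_inv w := by
    change φ.ψ (((x : GL ι F) : Matrix ι ι F) *ᵥ
      φ.ψ.symm (φ.ψ ((((x : GL ι F)⁻¹ : GL ι F) : Matrix ι ι F) *ᵥ φ.ψ.symm w))) = w
    rw [φ.ψ.symm_apply_apply, Matrix.mulVec_mulVec, ← Units.val_mul, mul_inv_cancel, Units.val_one, Matrix.one_mulVec,
      φ.ψ.apply_symm_apply]

theorem up_apply (x : cz K) (w : κ → E) :
    up φ x w = φ.ψ (((x : GL ι F) : Matrix ι ι F) *ᵥ φ.ψ.symm w) := rfl

/-- the centraliser of `K` as matrices over `E` -/
noncomputable def liftHom : cz K →* GL κ E :=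
  (H879.toEq (ι := κ) (F := E)).symm.toMonoidHom.comp
    { toFun := up φ
      map_one' := by
        apply LinearEquiv.ext
        intro w
        rw [up_apply, OneMemClass.coe_one, Units.val_one, Matrix.one_mulVec, φ.ψ.apply_symm_apply]
        rfl
      map_mul' := fun a b => by
        apply LinearEquiv.ext
        intro w
        rw [LinearEquiv.mul_apply, up_apply, up_apply, up_apply, φ.ψ.symm_apply_apply, Matrix.mulVec_mulVec, ← Units.val_mul,
          ← Subgroup.coe_mul] }

theorem lift_apply (x : cz K) (w : κ → E) : (liftHom φ x : Matrix κ κ E) *ᵥ w =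
    φ.ψ (((x : GL ι F) : Matrix ι ι F) *ᵥ φ.ψ.symm w) := by
  rw [← H879.toEq_apply]
  change H879.toEq (H879.toEq.symm (up φ x)) w = _
  rw [MulEquiv.apply_symm_apply]
  rfl

theorem lift_injective : Function.Injective (liftHom φ) := by
  intro x y hxy
  apply Subtype.ext
  apply (H879.toEq (ι := ι) (F := F)).injective
  apply LinearEquiv.ext
  intro v
  rw [H879.toEq_apply, H879.toEq_apply]
  have h1 := lift_apply φ x (φ.ψ v)
  rw [hxy, lift_apply, φ.ψ.symm_apply_apply] at h1
  exact (φ.ψ.injective h1).symm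

/-- the part of `B` centralising `K`, over `E` -/
noncomputable def low (B : Subgroup (GL ι F)) : Subgroup (GL κ E) := (B.subgroupOf (cz K)).map (liftHom φ)

theorem card_low (B : Subgroup (GL ι F)) : Nat.card (low φ B) = Nat.card ↥(B ⊓ cz K) := by
  rw [low, Subgroup.card_map_of_injective (lift_injective φ), ← Subgroup.card_map_of_injective (Subgroup.subtype_injective _),
    Subgroup.subgroupOf_map_subtype]

end Frame

/-- coordinates for a self-adjoint field of matrices -/
theorem exists_frame {F : Type u} [Field F] [Fintype F] {m b k : ℕ} (hb : 0 < b) (hk : 1 ≤ k) (hm : m = b * k)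
    {K : Subalgebra F (Matrix (Fin m ⊕ Fin m) (Fin m ⊕ Fin m) F)} (hK : IsFieldSubalgebra b K)
    (hsa : IsSelfAdjointFor (sympForm m F) K) (halt : ∀ k ∈ K, ∀ v, sympForm m F (Matrix.mulVec k v) v = 0) :
    ∃ (E : Type u) (_ : Field E) (_ : Fintype E), Fintype.card E = Fintype.card F ^ b ∧
      ∃ φ : Fr K E (Fin k ⊕ Fin k), ∀ x ∈ spGL m F, x ∈ cz K → ∀ u v,
        sympForm k E (φ.ψ ((x : Matrix (Fin m ⊕ Fin m) (Fin m ⊕ Fin m) F) *ᵥ u))
          (φ.ψ ((x : Matrix (Fin m ⊕ Fin m) (Fin m ⊕ Fin m) F) *ᵥ v)) = sympForm k E (φ.ψ u) (φ.ψ v) := by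
  classical
  have h0 : 0 < m := by rw [hm]; exact Nat.mul_pos hb hk
  have hne : Nonempty (Fin m ⊕ Fin m) := ⟨Sum.inl ⟨0, h0⟩⟩
  let _ : Field K := (H906.Cov.isField_of hK).toField
  have hfin : Finite K := Module.finite_of_finite F
  let _ : Fintype K := Fintype.ofFinite K
  have hsmul : ∀ (k : K) (v : Fin m ⊕ Fin m → F), k • v = (k : Matrix (Fin m ⊕ Fin m) (Fin m ⊕ Fin m) F) *ᵥ v := fun _ _ => rfl
  have hff : Module.Finite K (Fin m ⊕ Fin m → F) := Module.Finite.of_restrictScalars_finite F K (Fin m ⊕ Fin m → F)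
  obtain ⟨ℓ, hℓ⟩ : ∃ ℓ : K →ₗ[F] F, ℓ ≠ 0 := exists_ne 0
  obtain ⟨φ, hφ, hφa⟩ := H879.ExtField.exists_phi (V := Fin m ⊕ Fin m → F) hℓ (sympForm m F)
    sympForm_add_left sympForm_add_right sympForm_smul_left
    (fun k x y => by rw [hsmul, hsmul]; exact hsa k k.2 x y) (fun k x => by rw [hsmul]; exact halt k k.2 x)
  have hnd : ∀ x : Fin m ⊕ Fin m → F, (∀ y, φ x y = 0) → x = 0 := by
    intro x hx
    apply eq_zero_of_forall_sympForm_right
    intro w
    rw [← hφ, hx, map_zero]
  obtain ⟨k', bs, h1, h2, h3⟩ := H953.exists_symplectic_basis φ hφa hnd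
  have hk' : k' = k := by
    have h4 := Module.finrank_mul_finrank F K (Fin m ⊕ Fin m → F)
    rw [hK.finrank_eq, Module.finrank_fintype_fun_eq_card, Module.finrank_eq_card_basis bs, Fintype.card_sum, Fintype.card_sum,
      Fintype.card_fin, Fintype.card_fin, hm] at h4
    have h5 : b * (k' + k') = b * (k + k) := by rw [h4]; ring
    have h6 := Nat.eq_of_mul_eq_mul_left hb h5
    omega
  subst hk'
  refine ⟨K, inferInstance, inferInstance, ?_, ⟨bs.equivFun.toAddEquiv, fun k => if h : k ∈ K then ⟨k, h⟩ else 0, ?_, ?_⟩, ?_⟩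
  · rw [Module.card_eq_pow_finrank (K := F), hK.finrank_eq]
  · intro k hk v
    rw [dif_pos hk]
    exact bs.equivFun.map_smul (⟨k, hk⟩ : K) v
  · rintro ⟨k, hk⟩
    exact ⟨k, hk, dif_pos hk⟩
  · intro x hx hxz u v
    have key : φ ((x : Matrix (Fin m ⊕ Fin m) (Fin m ⊕ Fin m) F) *ᵥ u) ((x : Matrix (Fin m ⊕ Fin m) (Fin m ⊕ Fin m) F) *ᵥ v) =
        φ u v := by
      apply H879.ExtField.ell_ext hℓ
      intro c
      have e1 : ∀ a w : Fin m ⊕ Fin m → F, c * φ a w = φ (c • a) w := by
        intro a w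
        rw [map_smul, LinearMap.smul_apply, smul_eq_mul]
      rw [e1, e1, hφ, hφ, hsmul, hsmul, Matrix.mulVec_mulVec, ← hxz c c.2, ← Matrix.mulVec_mulVec]
      exact hx _ _
    change sympForm k' K (bs.equivFun ((x : Matrix (Fin m ⊕ Fin m) (Fin m ⊕ Fin m) F) *ᵥ u))
      (bs.equivFun ((x : Matrix (Fin m ⊕ Fin m) (Fin m ⊕ Fin m) F) *ᵥ v)) = sympForm k' K (bs.equivFun u) (bs.equivFun v)
    rw [basis_form φ hφa bs h1 h2 h3, basis_form φ hφa bs h1 h2 h3, key]

end Cfsg.Agent.H60.RS
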